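import Mathlib
set_option linter.all false

/-!
# The representation of `H` on a normalized elementary abelian subgroup `U`
-/

set_option autoImplicit false

namespace Cfsg.Agent.H718

universe u

/-- A representation over `ZMod p` from an additive action. -/
noncomputable def repOfAdd {p : ℕ} {A : Type*} [AddCommGroup A] [Module (ZMod p) A] {H : Type*}
    [Monoid H] (f : H → A →+ A) (h1 : ∀ x, f 1 x = x) (h2 : ∀ g h x, f (g * h) x = f g (f h x)) :
    Representation (ZMod p) H A where
  toFun h := (f h).toZModLinearMap p
  map_one' := by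
    apply LinearMap.ext
    intro x
    rw [AddMonoidHom.coe_toZModLinearMap, Module.End.one_apply, h1]
  map_mul' := by
    intro g h
    apply LinearMap.ext
    intro x
    rw [Module.End.mul_apply, AddMonoidHom.coe_toZModLinearMap, AddMonoidHom.coe_toZModLinearMap,
      AddMonoidHom.coe_toZModLinearMap, h2]

theorem repOfAdd_apply {p : ℕ} {A : Type*} [AddCommGroup A] [Module (ZMod p) A] {H : Type*}
    [Monoid H] (f : H → A →+ A) (h1 : ∀ x, f 1 x = x) (h2 : ∀ g h x, f (g * h) x = f g (f h x))
    (h : H) (x : A) : repOfAdd (p := p) f h1 h2 h x = f h x := rfl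

theorem exists_conjRep {X : Type u} [Group X] [Finite X] (p : ℕ) (H U : Subgroup X)
    (hab : ∀ a ∈ U, ∀ b ∈ U, a * b = b * a) (hexp : ∀ u ∈ U, u ^ p = 1)
    (hn : ∀ h ∈ H, ∀ u ∈ U, h * u * h⁻¹ ∈ U) :
    ∃ (E : Type u) (_ : AddCommGroup E) (_ : Module (ZMod p) E) (_ : Finite E) (e : E ≃ U)
      (ρ : Representation (ZMod p) H E), (∀ a b, e (a + b) = e a * e b) ∧
        ∀ (h : H) (s : E), ((e (ρ h s) : U) : X) = h * e s * (h : X)⁻¹ := by
  let : CommGroup U := { (inferInstance : Group U) with
    mul_comm := fun a b => Subtype.ext (hab a a.2 b b.2) }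
  have hz : ∀ x : Additive U, p • x = 0 := by
    intro x
    have h1 : (Additive.toMul x : U) ^ p = 1 := Subtype.ext (hexp _ (Additive.toMul x).2)
    exact congrArg Additive.ofMul h1
  let : Module (ZMod p) (Additive U) := AddCommGroup.zmodModule hz
  let f : H → (Additive U →+ Additive U) := fun h =>
    { toFun := fun x => Additive.ofMul ⟨(h : X) * (Additive.toMul x : U) * (h : X)⁻¹,
        hn h h.2 _ (Additive.toMul x).2⟩
      map_zero' := by
        apply congrArg Additive.ofMul
        apply Subtype.ext
        show (h : X) * 1 * (h : X)⁻¹ = 1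
        group
      map_add' := by
        intro x y
        apply congrArg Additive.ofMul
        apply Subtype.ext
        show (h : X) * ((Additive.toMul x : U) * (Additive.toMul y : U)) * (h : X)⁻¹ =
          ((h : X) * (Additive.toMul x : U) * (h : X)⁻¹) *
            ((h : X) * (Additive.toMul y : U) * (h : X)⁻¹)
        group }
  have h1 : ∀ x, f 1 x = x := by
    intro x
    apply Additive.toMul.injective
    apply Subtype.ext
    show ((1 : H) : X) * (Additive.toMul x : U) * ((1 : H) : X)⁻¹ = (Additive.toMul x : U)
    rw [Subgroup.coe_one]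
    group
  have h2 : ∀ g h x, f (g * h) x = f g (f h x) := by
    intro g h x
    apply Additive.toMul.injective
    apply Subtype.ext
    show ((g * h : H) : X) * (Additive.toMul x : U) * ((g * h : H) : X)⁻¹ =
      (g : X) * ((h : X) * (Additive.toMul x : U) * (h : X)⁻¹) * (g : X)⁻¹
    rw [Subgroup.coe_mul]
    group
  refine ⟨Additive U, inferInstance, inferInstance, inferInstance, Additive.toMul,
    repOfAdd (p := p) f h1 h2, fun a b => rfl, fun h s => ?_⟩
  rw [repOfAdd_apply]
  rfl

end Cfsg.Agent.H718
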