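import Mathlib
import Cfsg.Prelude.Def_Blocks
import Cfsg.Agent.H718.Gal
import Cfsg.Agent.Characters.Core
import Cfsg.Agent.Characters.GaloisIrr
import Cfsg.Agent.Characters.Ito
import Cfsg.Agent.CharactersDeep.ColumnBessel
import Cfsg.Agent.CharactersDeep.ModCongr
import Cfsg.Agent.Blocks.Local
import Cfsg.Agent.Blocks.AvgTrace
import Cfsg.Agent.Blocks.ExistsModular
import Cfsg.Agent.Blocks.PPart
set_option linter.all false

/-!
# Basic character theory for `X = V ⋊ G`, `V` an abelian normal Sylow `p`-subgroup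

* `not_memLocalIdeal_apply`: an irreducible character of `X` is a unit mod `M` at the elements of
  `V`.
* `isIntegral_avg_twisted`: `|H|⁻¹ ∑ h : H, χ (v * h) * ψ h` is an algebraic integer when `v`
  commutes with `H`.
* `card_centralizer_mul_le`: `|C_X(v h)| ≤ |C_V(h)| |C_H(h)|` for `h ∈ H = C_G(v)`.
-/

set_option autoImplicit false
set_option linter.unusedSectionVars false

open scoped ComplexConjugate

namespace Cfsg.Agent.H718

open Cfsg Cfsg.Agent.Characters.Core Cfsg.Agent.Blocks.Local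

section Generic

variable {X : Type*} [Group X] [Finite X]

/-- Values of characters lie in the field of `n`-th roots of unity for every multiple `n` of the
group order. -/
theorem character_mem_Cyc {χ : X → ℂ} (hχ : IsCharacter X χ) {n : ℕ} (hn : n ≠ 0)
    (hdvd : Nat.card X ∣ n) (g : X) : χ g ∈ Cyc n := by
  have hg : g ^ n = 1 := by
    obtain ⟨k, rfl⟩ := hdvd
    rw [pow_mul, pow_card_eq_one', one_pow]
  obtain ⟨d, μ, -, hμ, hsum⟩ :=
    Cfsg.Agent.Characters.GaloisBasic.isCharacter_exists_fin_pow hχ g hn hg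
  have h1 := hsum 1
  rw [pow_one] at h1
  rw [h1]
  refine sum_mem (fun i _ => ?_)
  exact pow_mem (mem_Cyc_of_pow (hμ i)) 1

theorem isIntegral_character {χ : X → ℂ} (hχ : IsCharacter X χ) (g : X) : IsIntegral ℤ (χ g) :=
  Cfsg.Agent.Characters.GaloisBasic.isIntegral_apply hχ g

/-- The Galois conjugate of an irreducible character. -/
noncomputable def galIrr (σ : ℂ ≃+* ℂ) (χ : IrrCharacter X) : IrrCharacter X :=
  ⟨fun g => σ ((χ : X → ℂ) g), Cfsg.Agent.Characters.GaloisIrr.isIrr_map σ χ.2⟩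

theorem galIrr_apply (σ : ℂ ≃+* ℂ) (χ : IrrCharacter X) (g : X) :
    (galIrr σ χ : X → ℂ) g = σ ((χ : X → ℂ) g) := rfl

theorem galIrr_injective (σ : ℂ ≃+* ℂ) : Function.Injective (galIrr (X := X) σ) := by
  intro χ ψ h
  apply Subtype.ext
  funext g
  have := congrArg (fun f : IrrCharacter X => (f : X → ℂ) g) h
  simp only [galIrr_apply] at this
  exact σ.injective this

theorem galIrr_bijective (σ : ℂ ≃+* ℂ) : Function.Bijective (galIrr (X := X) σ) := by
  have : Finite (IrrCharacter X) := finite_irr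
  exact Finite.injective_iff_bijective.1 (galIrr_injective σ)

/-- The twisted averages `|H|⁻¹ ∑ h : H, χ (v * h) * ψ h`, for `v` commuting with `H`. -/
theorem isIntegral_avg_twisted (H : Subgroup X) [Fintype H] (v : X) (hv : ∀ h ∈ H, v * h = h * v)
    {χ : X → ℂ} (hχ : IsCharacter X χ) {ψ : H → ℂ} (hψ : IsCharacter H ψ) :
    IsIntegral ℤ ((Nat.card H : ℂ)⁻¹ * ∑ h : H, χ (v * h) * ψ h) := by
  classical
  let Θ : X × H → ℂ := (χ ∘ MonoidHom.fst X H) * (ψ ∘ MonoidHom.snd X H)
  have hΘ : IsCharacter (X × H) Θ :=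
    isCharacter_mul (isCharacter_comp _ hχ) (isCharacter_comp _ hψ)
  let d : H →* X × H := H.subtype.prod (MonoidHom.id H)
  have hd : Function.Injective d := fun a b h => congrArg Prod.snd h
  let P : Subgroup (X × H) := d.range
  let e : H ≃ P := (MonoidHom.ofInjective hd).toEquiv
  have he : ∀ h : H, ((e h : P) : X × H) = ((h : X), h) := fun h => rfl
  have : Fintype P := Fintype.ofEquiv H e
  have hcomm : ∀ u ∈ P, Commute ((v, 1) : X × H) u := by
    rintro _ ⟨h, rfl⟩
    refine Prod.ext ?_ ?_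
    · exact hv h h.2
    · show (1 : H) * h = h * 1
      rw [one_mul, mul_one]
  have key := Cfsg.Agent.Blocks.AvgTrace.isIntegral_avg hΘ P (v, 1) hcomm
  have hcard : Nat.card P = Nat.card H := (Nat.card_congr e).symm
  rw [hcard] at key
  have hsum : ∑ u : P, Θ ((v, 1) * (u : X × H)) = ∑ h : H, χ (v * h) * ψ h := by
    rw [← e.sum_comp]
    refine Finset.sum_congr rfl (fun h _ => ?_)
    rw [he]
    show χ (v * (h : X)) * ψ (1 * h) = _
    rw [one_mul]
  rw [hsum] at key
  exact key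

/-- Column Bessel inequality for a finite type of irreducible characters. -/
theorem sum_norm_sq_apply_le [Fintype (IrrCharacter X)] (x : X) :
    ∑ χ : IrrCharacter X, ‖(χ : X → ℂ) x‖ ^ 2 ≤
      Nat.card (Subgroup.centralizer ({x} : Set X)) :=
  Cfsg.Agent.CharactersDeep.ColumnBessel.sum_norm_sq_le Finset.univ x

theorem sum_norm_sq_gal_le [Fintype (IrrCharacter X)] (σ : ℂ ≃+* ℂ) (x : X) :
    ∑ χ : IrrCharacter X, ‖σ ((χ : X → ℂ) x)‖ ^ 2 ≤
      Nat.card (Subgroup.centralizer ({x} : Set X)) := by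
  have h := (Function.Bijective.sum_comp (galIrr_bijective (X := X) σ)
    (fun χ : IrrCharacter X => ‖(χ : X → ℂ) x‖ ^ 2))
  simp only [galIrr_apply] at h
  rw [h]
  exact sum_norm_sq_apply_le x

end Generic

section KGV

variable {X : Type*} [Group X] [Finite X] {p : ℕ} [Fact p.Prime] {V : Subgroup X} [V.Normal]

/-- The degree of an irreducible character is prime to `p`. -/
theorem not_dvd_degree (hidx : ¬ p ∣ V.index) (hab : ∀ a ∈ V, ∀ b ∈ V, a * b = b * a)
    (χ : IrrCharacter X) : ∃ d : ℕ, (χ : X → ℂ) 1 = d ∧ ¬ p ∣ d := by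
  obtain ⟨n, ρ, hirr, hρ⟩ := χ.2
  have := hirr
  have hdvd := Cfsg.Agent.Characters.Ito.finrank_dvd_index ρ V hab
  refine ⟨Module.finrank ℂ (Fin n → ℂ), ?_, fun h => hidx (h.trans hdvd)⟩
  rw [← hρ, Representation.char_one]

theorem not_memLocalIdeal_natCast {M : Ideal AlgInt} (hM : IsPModular p M) {d : ℕ}
    (hd : ¬ p ∣ d) : ¬ MemLocalIdeal M (d : ℂ) := by
  have hprime := isPrime_of_isPModular hM
  have h1 : ((d : AlgInt) : ℂ) = (d : ℂ) := by simp
  rw [← h1, Cfsg.Agent.CharactersDeep.ModCongr.memLocalIdeal_coe_iff hprime,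
    Cfsg.Agent.CharactersDeep.ModCongr.natCast_mem_iff hM]
  exact hd

theorem apply_sub_mem {M : Ideal AlgInt} (hM : IsPModular p M) (hVp : IsPGroup p V)
    (χ : IrrCharacter X) {v : X} (hv : v ∈ V) :
    MemLocalIdeal M ((χ : X → ℂ) v - (χ : X → ℂ) 1) := by
  obtain ⟨k, hk⟩ := (IsPGroup.iff_orderOf.1 hVp) ⟨v, hv⟩
  rw [Subgroup.orderOf_mk] at hk
  have h := Cfsg.Agent.CharactersDeep.ModCongr.memLocalIdeal_character_sub hM χ.2 v v
    (Cfsg.Agent.Blocks.PPart.isPPart_of_isPGroup ⟨k, hk⟩)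
  rwa [inv_mul_cancel] at h

/-- An irreducible character of `X` is a unit modulo `M` at the elements of `V`. -/
theorem not_memLocalIdeal_apply {M : Ideal AlgInt} (hM : IsPModular p M) (hVp : IsPGroup p V)
    (hidx : ¬ p ∣ V.index) (hab : ∀ a ∈ V, ∀ b ∈ V, a * b = b * a) (χ : IrrCharacter X) {v : X}
    (hv : v ∈ V) : ¬ MemLocalIdeal M ((χ : X → ℂ) v) := by
  have hprime := isPrime_of_isPModular hM
  intro h
  obtain ⟨d, hd, hpd⟩ := not_dvd_degree hidx hab χ
  have h1 := memLocalIdeal_sub h (apply_sub_mem hM hVp χ hv)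
  rw [sub_sub_cancel, hd] at h1
  exact not_memLocalIdeal_natCast hM hpd h1

theorem orderOf_coprime (hVp : IsPGroup p V) {G : Subgroup X} (hG : ¬ p ∣ Nat.card G) {v h : X}
    (hv : v ∈ V) (hh : h ∈ G) : (orderOf v).Coprime (orderOf h) := by
  obtain ⟨k, hk⟩ := (IsPGroup.iff_orderOf.1 hVp) ⟨v, hv⟩
  rw [Subgroup.orderOf_mk] at hk
  rw [hk]
  apply Nat.Coprime.pow_left
  rw [(Fact.out : p.Prime).coprime_iff_not_dvd]
  intro h
  apply hG
  have h2 : orderOf (⟨_, hh⟩ : G) ∣ Nat.card G := orderOf_dvd_natCard _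
  rw [Subgroup.orderOf_mk] at h2
  exact h.trans h2

/-- Elements commuting with a product of commuting elements of coprime orders commute with the
factors. -/
theorem commute_of_commute_mul {v h x : X} (hvh : Commute v h)
    (hco : (orderOf v).Coprime (orderOf h)) (hx : Commute x (v * h)) :
    Commute x v ∧ Commute x h := by
  obtain ⟨k, hk1, hk2⟩ := Nat.chineseRemainder hco 1 0
  have e1 : (v * h) ^ k = v := by
    rw [hvh.mul_pow, pow_eq_pow_iff_modEq.2 hk1, pow_eq_pow_iff_modEq.2 hk2, pow_one, pow_zero,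
      mul_one]
  have hxv : Commute x v := by
    rw [← e1]
    exact hx.pow_right k
  refine ⟨hxv, ?_⟩
  have e2 : h = v⁻¹ * (v * h) := by group
  rw [e2]
  exact hxv.inv_right.mul_right hx

/-- `|C_X(v h)| ≤ |C_V(h)| |C_H(h)|` for `h ∈ H = C_G(v)`. -/
theorem card_centralizer_mul_le (hVp : IsPGroup p V) (hab : ∀ a ∈ V, ∀ b ∈ V, a * b = b * a)
    {G : Subgroup X} (hG : ¬ p ∣ Nat.card G) (hGV : Subgroup.IsComplement' V G) {v h : X}
    (hv : v ∈ V) (hh : h ∈ G) (hvh : Commute v h) :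
    Nat.card (Subgroup.centralizer ({v * h} : Set X)) ≤
      Nat.card ↥(V ⊓ Subgroup.centralizer ({h} : Set X)) *
        Nat.card ↥((G ⊓ Subgroup.centralizer ({v} : Set X)) ⊓
          Subgroup.centralizer ({h} : Set X)) := by
  classical
  rw [← Nat.card_prod]
  have hco := orderOf_coprime hVp hG hv hh
  -- decomposition of elements of the centralizer
  have key : ∀ x : Subgroup.centralizer ({v * h} : Set X), ∃ w g : X,
      (w ∈ V ⊓ Subgroup.centralizer ({h} : Set X)) ∧
      (g ∈ (G ⊓ Subgroup.centralizer ({v} : Set X)) ⊓ Subgroup.centralizer ({h} : Set X)) ∧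
      w * g = x := by
    rintro ⟨x, hx⟩
    rw [Subgroup.mem_centralizer_singleton_iff] at hx
    obtain ⟨hxv, hxh⟩ := commute_of_commute_mul hvh hco hx
    obtain ⟨⟨w, g⟩, hwg⟩ := hGV.surjective x
    simp only at hwg
    have hwV := w.2
    have hgG := g.2
    -- `g` commutes with `v`
    have hgv : (g : X) * v = v * g := by
      have h1 : (w : X) * g * v = v * ((w : X) * g) := by rw [hwg]; exact hxv
      have h2 : v * (w : X) = w * v := hab v hv w hwV
      rw [← mul_assoc, h2, mul_assoc, mul_assoc] at h1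
      exact mul_left_cancel h1
    -- `g` commutes with `h`
    have hgh : (g : X) * h = h * g ∧ (w : X) * h = h * w := by
      have h1 : (w : X) * g * h = h * ((w : X) * g) := by rw [hwg]; exact hxh
      have h2 : ((⟨w, hwV⟩ : V) : X) * ((⟨(g : X) * h, mul_mem hgG hh⟩ : G) : X) =
          ((⟨h * w * h⁻¹, (inferInstance : V.Normal).conj_mem _ hwV h⟩ : V) : X) *
            ((⟨h * g, mul_mem hh hgG⟩ : G) : X) := by
        show (w : X) * ((g : X) * h) = h * w * h⁻¹ * (h * g)
        rw [← mul_assoc, h1]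
        group
      have h3 := hGV.injective (a₁ := (⟨w, hwV⟩, ⟨(g : X) * h, mul_mem hgG hh⟩))
        (a₂ := (⟨h * w * h⁻¹, (inferInstance : V.Normal).conj_mem _ hwV h⟩,
          ⟨h * g, mul_mem hh hgG⟩)) h2
      have h4 := congrArg (fun q : V × G => ((q.1 : V) : X)) h3
      have h5 := congrArg (fun q : V × G => ((q.2 : G) : X)) h3
      simp only at h4 h5
      refine ⟨h5, ?_⟩
      conv_lhs => rw [h4]
      group
    refine ⟨w, g, ⟨hwV, ?_⟩, ⟨⟨hgG, ?_⟩, ?_⟩, hwg⟩
    · exact Subgroup.mem_centralizer_singleton_iff.2 hgh.2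
    · exact Subgroup.mem_centralizer_singleton_iff.2 hgv
    · exact Subgroup.mem_centralizer_singleton_iff.2 hgh.1
  choose w g hw hg hwg using key
  refine Nat.card_le_card_of_injective (fun x => (⟨⟨w x, hw x⟩, ⟨g x, hg x⟩⟩ :
    ↥(V ⊓ Subgroup.centralizer ({h} : Set X)) ×
      ↥((G ⊓ Subgroup.centralizer ({v} : Set X)) ⊓ Subgroup.centralizer ({h} : Set X)))) ?_
  intro x y hxy
  simp only [Prod.mk.injEq, Subtype.mk.injEq] at hxy
  apply Subtype.ext
  rw [← hwg x, ← hwg y, hxy.1, hxy.2]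

end KGV

end Cfsg.Agent.H718
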