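import Cfsg.Agent.H718.KGVBasic
set_option linter.all false

-- part: H718/KGVCore
section
/-!
# The `δ` criterion for `k(GV) ≤ |V|`

`X = V ⋊ G` with `V` an abelian normal Sylow `p`-subgroup, `v ∈ V`, `H = C_G(v)`.  If `δ` is a
class function on `H` whose inner products with the irreducible characters of `H` are algebraic
integers, `δ 1 = 1`, `δ h ∈ M` for `h ≠ 1` and all conjugates of `δ h` have squared absolute value
at most `|V| / |C_V(h)|`, then `X` has at most `|V|` conjugacy classes.
-/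

set_option autoImplicit false
set_option linter.unusedSectionVars false

open scoped ComplexConjugate

namespace Cfsg.Agent.H718

open Cfsg Cfsg.Agent.Characters.Core Cfsg.Agent.Blocks.Local

/-- Commuting pairs: `∑ h, |C_H(h)| = |H| k(H)`, for a subgroup `H` of `X`. -/
theorem sum_card_centralizer {X : Type*} [Group X] [Finite X] (H : Subgroup X) [Fintype H] :
    ∑ h : H, Nat.card ↥(H ⊓ Subgroup.centralizer ({(h : X)} : Set X)) =
      Nat.card (ConjClasses H) * Nat.card H := by
  classical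
  rw [← card_comm_eq_card_conjClasses_mul_card]
  have e : {q : H × H // Commute q.1 q.2} ≃
      Σ h : H, ↥(H ⊓ Subgroup.centralizer ({(h : X)} : Set X)) :=
    { toFun := fun q => ⟨q.1.1, ⟨(q.1.2 : X), q.1.2.2,
        Subgroup.mem_centralizer_singleton_iff.2 (congrArg (Subtype.val) q.2.eq.symm)⟩⟩
      invFun := fun q => ⟨(q.1, ⟨(q.2 : X), q.2.2.1⟩),
        Subtype.ext (Subgroup.mem_centralizer_singleton_iff.1 q.2.2.2).symm⟩
      left_inv := fun q => rfl
      right_inv := fun q => rfl }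
  rw [Nat.card_congr e, Nat.card_sigma]

section Delta

variable {X : Type*} [Group X] [Finite X] {p : ℕ} [Fact p.Prime] {V : Subgroup X} [V.Normal]

/-- The coefficient `|H|⁻¹ ∑ h, χ (v h) δ h conj (φ h)`. -/
noncomputable def cf (H : Subgroup X) [Fintype H] (v : X) (δ : H → ℂ) (χ : X → ℂ) (φ : H → ℂ) : ℂ :=
  (Nat.card H : ℂ)⁻¹ * ∑ h : H, χ (v * h) * δ h * conj (φ h)

theorem cf_eq_classInner (H : Subgroup X) [Fintype H] (v : X) (δ : H → ℂ) (χ : X → ℂ)
    (φ : H → ℂ) : cf H v δ χ φ = classInner (fun h : H => χ (v * h) * δ h) φ := rfl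

theorem isIntegral_cf (H : Subgroup X) [Fintype H] (v : X) (hv : ∀ h ∈ H, v * h = h * v)
    {δ : H → ℂ} (hδcl : IsClassFunction H δ)
    (hδint : ∀ ψ : H → ℂ, IsIrrCharacter H ψ → IsIntegral ℤ (classInner δ ψ))
    {χ : X → ℂ} (hχ : IsCharacter X χ) {φ : H → ℂ} (hφ : IsCharacter H φ) :
    IsIntegral ℤ (cf H v δ χ φ) := by
  classical
  have : Finite (IrrCharacter H) := finite_irr
  have : Fintype (IrrCharacter H) := Fintype.ofFinite _
  have hexp := classFunction_eq_sum hδcl
  have h1 : cf H v δ χ φ = ∑ ψ : IrrCharacter H, classInner δ (ψ : H → ℂ) *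
      ((Nat.card H : ℂ)⁻¹ * ∑ h : H, χ (v * h) * ((ψ : H → ℂ) * fun h => conj (φ h)) h) := by
    unfold cf
    have h2 : ∀ h : H, δ h = ∑ ψ : IrrCharacter H, classInner δ (ψ : H → ℂ) * (ψ : H → ℂ) h := by
      intro h
      conv_lhs => rw [hexp]
      simp [Finset.sum_apply]
    have h3 : ∀ h : H, χ (v * h) * δ h * conj (φ h) = ∑ ψ : IrrCharacter H,
        classInner δ (ψ : H → ℂ) * (χ (v * h) * ((ψ : H → ℂ) h * conj (φ h))) := by
      intro h
      rw [h2, Finset.mul_sum, Finset.sum_mul]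
      exact Finset.sum_congr rfl (fun ψ _ => by ring)
    simp_rw [h3]
    rw [Finset.sum_comm, Finset.mul_sum]
    refine Finset.sum_congr rfl (fun ψ _ => ?_)
    rw [← Finset.mul_sum]
    simp only [Pi.mul_apply]
    ring
  rw [h1]
  refine IsIntegral.sum _ (fun ψ _ => ?_)
  refine (hδint ψ ψ.2).mul ?_
  exact isIntegral_avg_twisted H v hv hχ
    (isCharacter_mul (isIrr_isCharacter ψ.2) (isCharacter_conj hφ))

theorem conj_mem_Cyc {n : ℕ} {z : ℂ} (hz : z ∈ Cyc n) : conj z ∈ Cyc n := by
  by_cases hn : n = 0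
  · subst hn
    apply mem_Cyc_of_pow
    exact pow_zero _
  · refine IntermediateField.adjoin_induction (p := fun z _ => conj z ∈ Cyc n) ℚ ?_ ?_ ?_ ?_ ?_ hz
    · intro x hx
      apply mem_Cyc_of_pow
      have hx' : x ^ n = 1 := hx
      rw [← map_pow, hx', map_one]
    · intro q
      have : conj (algebraMap ℚ ℂ q) = algebraMap ℚ ℂ q := by simp
      rw [this]
      exact (Cyc n).algebraMap_mem q
    · intro x y _ _ hx hy
      rw [map_add]
      exact add_mem hx hy
    · intro x _ hx
      rw [map_inv₀]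
      exact inv_mem hx
    · intro x y _ _ hx hy
      rw [map_mul]
      exact mul_mem hx hy

theorem cf_mem_Cyc (H : Subgroup X) [Fintype H] (v : X) {n : ℕ} (hn : n ≠ 0)
    (hdvd : Nat.card X ∣ n) {δ : H → ℂ} (hδ : ∀ h, δ h ∈ Cyc n)
    {χ : X → ℂ} (hχ : IsCharacter X χ) {φ : H → ℂ} (hφ : IsCharacter H φ) :
    cf H v δ χ φ ∈ Cyc n := by
  have hdvd' : Nat.card H ∣ n := (Subgroup.card_subgroup_dvd_card H).trans hdvd
  refine mul_mem (inv_mem (natCast_mem _ _)) (sum_mem (fun h _ => ?_))
  exact mul_mem (mul_mem (character_mem_Cyc hχ hn hdvd _) (hδ h))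
    (conj_mem_Cyc (character_mem_Cyc hφ hn hdvd' _))

/-- **The `δ` criterion.** -/
theorem card_conjClasses_le_of_delta (hVp : IsPGroup p V) (hidx : ¬ p ∣ V.index)
    (hab : ∀ a ∈ V, ∀ b ∈ V, a * b = b * a) (G : Subgroup X) (hGV : Subgroup.IsComplement' V G)
    {v : X} (hv : v ∈ V) (H : Subgroup X) (hH : H = G ⊓ Subgroup.centralizer ({v} : Set X))
    [Fintype H] {M : Ideal AlgInt} (hM : IsPModular p M) {n : ℕ} (hn : n ≠ 0)
    (hdvd : Nat.card X ∣ n)
    (δ : H → ℂ) (hδcl : IsClassFunction H δ)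
    (hδint : ∀ ψ : H → ℂ, IsIrrCharacter H ψ → IsIntegral ℤ (classInner δ ψ))
    (hδmem : ∀ h, δ h ∈ Cyc n) (hδ1 : δ 1 = 1) (hδM : ∀ h, h ≠ 1 → MemLocalIdeal M (δ h))
    (hδabs : ∀ (σ : ℂ ≃+* ℂ) (h : H), ‖σ (δ h)‖ ^ 2 *
      Nat.card ↥(V ⊓ Subgroup.centralizer ({(h : X)} : Set X)) ≤ Nat.card V) :
    Nat.card (ConjClasses X) ≤ Nat.card V := by
  classical
  have hprime := isPrime_of_isPModular hM
  have hGidx : V.index = Nat.card G := hGV.symm.index_eq_card
  have hG : ¬ p ∣ Nat.card G := hGidx ▸ hidx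
  have hHG : H ≤ G := hH ▸ inf_le_left
  have hHcard : ¬ p ∣ Nat.card H := fun h => hG (h.trans (Subgroup.card_dvd_of_le hHG))
  have hvH : ∀ h ∈ H, v * h = h * v := by
    intro h hh
    rw [hH] at hh
    exact (Subgroup.mem_centralizer_singleton_iff.1 hh.2).symm
  have : Finite (IrrCharacter X) := finite_irr
  have : Finite (IrrCharacter H) := finite_irr
  have : Fintype (IrrCharacter X) := Fintype.ofFinite _
  have : Fintype (IrrCharacter H) := Fintype.ofFinite _
  obtain ⟨ι, _, _, σ, hσ⟩ := exists_galois_avg n hn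
  -- nonvanishing of the coefficients
  have hne : ∀ (χ : IrrCharacter X) (φ : IrrCharacter H), cf H v δ χ φ ≠ 0 := by
    intro χ φ h0
    have hcard0 : (Nat.card H : ℂ) ≠ 0 := by exact_mod_cast Nat.card_pos.ne'
    have h1 : ∑ h : H, (χ : X → ℂ) (v * h) * δ h * conj ((φ : H → ℂ) h) = 0 := by
      have := h0
      unfold cf at this
      rcases mul_eq_zero.1 this with h | h
      · exact absurd h (inv_ne_zero hcard0)
      · exact h
    rw [← Finset.add_sum_erase _ _ (Finset.mem_univ (1 : H))] at h1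
    have hrest : MemLocalIdeal M (∑ h ∈ Finset.univ.erase (1 : H),
        (χ : X → ℂ) (v * h) * δ h * conj ((φ : H → ℂ) h)) := by
      refine memLocalIdeal_sum (fun h hh => ?_)
      have hh1 : h ≠ 1 := Finset.ne_of_mem_erase hh
      refine memLocalIdeal_mul_right (memLocalIdeal_mul_left ?_ (hδM h hh1)) ?_
      · exact memLocalRing_of_isIntegral (isIntegral_character (isIrr_isCharacter χ.2) _)
      · exact memLocalRing_of_isIntegral
          (isIntegral_character (isCharacter_conj (isIrr_isCharacter φ.2)) _)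
    have hfirst : MemLocalIdeal M ((χ : X → ℂ) (v * (1 : H)) * δ 1 * conj ((φ : H → ℂ) 1)) := by
      have h2 : (χ : X → ℂ) (v * (1 : H)) * δ 1 * conj ((φ : H → ℂ) 1) =
          -(∑ h ∈ Finset.univ.erase (1 : H),
            (χ : X → ℂ) (v * h) * δ h * conj ((φ : H → ℂ) h)) := by
        linear_combination h1
      rw [h2]
      exact memLocalIdeal_neg hrest
    obtain ⟨n', ρ, hirr, hρ⟩ := φ.2
    have hirr' := hirr
    have hdeg : ∃ e : ℕ, (φ : H → ℂ) 1 = e ∧ ¬ p ∣ e := by
      refine ⟨Module.finrank ℂ (Fin n' → ℂ), ?_, ?_⟩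
      · rw [← hρ, Representation.char_one]
      · intro h
        have hd := Cfsg.Agent.Characters.Ito.finrank_dvd_index ρ (⊥ : Subgroup H)
          (fun a ha b hb => by
            rw [Subgroup.mem_bot.1 ha, Subgroup.mem_bot.1 hb])
        rw [Subgroup.index_bot] at hd
        exact hHcard (h.trans hd)
    obtain ⟨e, he, hpe⟩ := hdeg
    rw [hδ1, he, Subgroup.coe_one, mul_one, mul_one, Complex.conj_natCast] at hfirst
    -- `χ v * e` is a unit
    have hχv := not_memLocalIdeal_apply hM hVp hidx hab χ hv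
    have he' := not_memLocalIdeal_natCast (M := M) hM hpe
    rcases memLocalIdeal_or_of_mul (M := M)
      (memLocalRing_of_isIntegral (isIntegral_character (isIrr_isCharacter χ.2) v))
      (memLocalRing_natCast e) hfirst with h | h
    · exact hχv h
    · exact he' h
  -- lower bound
  have hlow : ∀ (χ : IrrCharacter X) (φ : IrrCharacter H),
      (Fintype.card ι : ℝ) ≤ ∑ i, ‖σ i (cf H v δ χ φ)‖ ^ 2 := fun χ φ =>
    hσ _ (isIntegral_cf H v hvH hδcl hδint (isIrr_isCharacter χ.2) (isIrr_isCharacter φ.2))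
      (cf_mem_Cyc H v hn hdvd hδmem (isIrr_isCharacter χ.2) (isIrr_isCharacter φ.2)) (hne χ φ)
  -- upper bound, for a fixed automorphism
  have hup : ∀ τ : ℂ ≃+* ℂ, ∑ χ : IrrCharacter X, ∑ φ : IrrCharacter H,
      ‖τ (cf H v δ χ φ)‖ ^ 2 ≤ (Nat.card V : ℝ) * Nat.card (ConjClasses H) := by
    intro τ
    have hH0 : (0 : ℝ) < Nat.card H := by exact_mod_cast Nat.card_pos
    -- for one `χ`
    have h1 : ∀ χ : IrrCharacter X, ∑ φ : IrrCharacter H, ‖τ (cf H v δ χ φ)‖ ^ 2 =
        (Nat.card H : ℝ)⁻¹ * ∑ h : H, ‖τ ((χ : X → ℂ) (v * h))‖ ^ 2 * ‖τ (δ h)‖ ^ 2 := by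
      intro χ
      set F : H → ℂ := fun h => τ ((χ : X → ℂ) (v * h)) * τ (δ h) with hF
      have hFcl : IsClassFunction H F := by
        intro g h
        simp only [hF]
        have e1 : (χ : X → ℂ) (v * ((h * g * h⁻¹ : H) : X)) = (χ : X → ℂ) (v * (g : X)) := by
          have e2 : v * ((h * g * h⁻¹ : H) : X) = (h : X) * (v * g) * (h : X)⁻¹ := by
            have := hvH h h.2
            push_cast
            rw [← mul_assoc, ← mul_assoc, ← mul_assoc, this]
          rw [e2]
          exact (isIrr_isClassFunction χ.2) (v * g) h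
        rw [e1, hδcl g h]
      have h2 : ∀ φ : IrrCharacter H, τ (cf H v δ χ φ) = classInner F (galIrr τ φ : H → ℂ) := by
        intro φ
        rw [cf, map_mul, map_inv₀, map_natCast, map_sum]
        show _ = (Nat.card H : ℂ)⁻¹ * ∑ h : H, F h * conj ((galIrr τ φ : H → ℂ) h)
        congr 1
        refine Finset.sum_congr rfl (fun h _ => ?_)
        rw [map_mul, map_mul]
        congr 1
        rw [← isCharacter_apply_inv (isIrr_isCharacter φ.2) h,
          ← isCharacter_apply_inv (isIrr_isCharacter (galIrr τ φ).2) h, galIrr_apply]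
      have h3 : ∑ φ : IrrCharacter H, ‖τ (cf H v δ χ φ)‖ ^ 2 =
          ∑ φ : IrrCharacter H, ‖classInner F (φ : H → ℂ)‖ ^ 2 := by
        simp_rw [h2]
        exact Function.Bijective.sum_comp (galIrr_bijective (X := H) τ)
          (fun φ : IrrCharacter H => ‖classInner F (φ : H → ℂ)‖ ^ 2)
      rw [h3]
      have h4 := classInner_eq_sum hFcl hFcl
      have h5 : (((∑ φ : IrrCharacter H, ‖classInner F (φ : H → ℂ)‖ ^ 2 : ℝ)) : ℂ) =
          classInner F F := by
        rw [h4]
        push_cast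
        refine Finset.sum_congr rfl (fun φ _ => ?_)
        rw [Complex.mul_conj, Complex.normSq_eq_norm_sq]
        push_cast
        rfl
      rw [classInner_self_eq_ofReal] at h5
      have h6 := Complex.ofReal_injective h5
      rw [h6]
      congr 1
      refine Finset.sum_congr rfl (fun h _ => ?_)
      rw [Complex.normSq_eq_norm_sq, hF]
      simp only
      rw [norm_mul, mul_pow]
    calc ∑ χ : IrrCharacter X, ∑ φ : IrrCharacter H, ‖τ (cf H v δ χ φ)‖ ^ 2
        = (Nat.card H : ℝ)⁻¹ * ∑ h : H, (∑ χ : IrrCharacter X, ‖τ ((χ : X → ℂ) (v * h))‖ ^ 2) *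
            ‖τ (δ h)‖ ^ 2 := by
          simp_rw [h1]
          rw [← Finset.mul_sum, Finset.sum_comm]
          congr 1
          refine Finset.sum_congr rfl (fun h _ => ?_)
          rw [Finset.sum_mul]
      _ ≤ (Nat.card H : ℝ)⁻¹ * ∑ h : H, (Nat.card V : ℝ) *
            Nat.card ↥(H ⊓ Subgroup.centralizer ({(h : X)} : Set X)) := by
          refine mul_le_mul_of_nonneg_left (Finset.sum_le_sum (fun h _ => ?_))
            (inv_nonneg.2 hH0.le)
          have e1 := sum_norm_sq_gal_le τ (v * (h : X))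
          have e2 := card_centralizer_mul_le hVp hab hG hGV hv (hHG h.2) (hvH h h.2)
          rw [← hH] at e2
          have e3 := hδabs τ h
          calc (∑ χ : IrrCharacter X, ‖τ ((χ : X → ℂ) (v * h))‖ ^ 2) * ‖τ (δ h)‖ ^ 2
              ≤ (Nat.card ↥(V ⊓ Subgroup.centralizer ({(h : X)} : Set X)) *
                  Nat.card ↥(H ⊓ Subgroup.centralizer ({(h : X)} : Set X))) *
                    ‖τ (δ h)‖ ^ 2 := by
                refine mul_le_mul_of_nonneg_right (e1.trans ?_) (by positivity)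
                exact_mod_cast e2
            _ = (‖τ (δ h)‖ ^ 2 * Nat.card ↥(V ⊓ Subgroup.centralizer ({(h : X)} : Set X))) *
                  Nat.card ↥(H ⊓ Subgroup.centralizer ({(h : X)} : Set X)) := by ring
            _ ≤ _ := mul_le_mul_of_nonneg_right e3 (by positivity)
      _ = (Nat.card V : ℝ) * Nat.card (ConjClasses H) := by
          rw [← Finset.mul_sum]
          have e1 := sum_card_centralizer H
          have e2 : ∑ h : H, (Nat.card ↥(H ⊓ Subgroup.centralizer ({(h : X)} : Set X)) : ℝ) =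
              (Nat.card (ConjClasses H) : ℝ) * Nat.card H := by exact_mod_cast e1
          rw [e2]
          field_simp
  -- conclusion
  have hι : (0 : ℝ) < Fintype.card ι := by exact_mod_cast Fintype.card_pos
  have hkH : (0 : ℝ) < Nat.card (ConjClasses H) := by
    have : 0 < Nat.card (ConjClasses H) := Nat.card_pos
    exact_mod_cast this
  have htot : (Fintype.card ι : ℝ) * ((Nat.card (ConjClasses X) : ℝ) *
      Nat.card (ConjClasses H)) ≤
        (Fintype.card ι : ℝ) * ((Nat.card V : ℝ) * Nat.card (ConjClasses H)) := by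
    calc (Fintype.card ι : ℝ) * ((Nat.card (ConjClasses X) : ℝ) * Nat.card (ConjClasses H))
        = ∑ _χ : IrrCharacter X, ∑ _φ : IrrCharacter H, (Fintype.card ι : ℝ) := by
          rw [Finset.sum_const, Finset.sum_const, Finset.card_univ, Finset.card_univ,
            nsmul_eq_mul, nsmul_eq_mul, ← card_irr (G := X), ← card_irr (G := H),
            Nat.card_eq_fintype_card, Nat.card_eq_fintype_card]
          ring
      _ ≤ ∑ χ : IrrCharacter X, ∑ φ : IrrCharacter H, ∑ i, ‖σ i (cf H v δ χ φ)‖ ^ 2 :=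
          Finset.sum_le_sum (fun χ _ => Finset.sum_le_sum (fun φ _ => hlow χ φ))
      _ = ∑ i, ∑ χ : IrrCharacter X, ∑ φ : IrrCharacter H, ‖σ i (cf H v δ χ φ)‖ ^ 2 := by
          rw [Finset.sum_congr rfl (fun (χ : IrrCharacter X) _ => Finset.sum_comm
            (s := (Finset.univ : Finset (IrrCharacter H))) (t := (Finset.univ : Finset ι))
            (f := fun φ i => ‖σ i (cf H v δ χ φ)‖ ^ 2)), Finset.sum_comm]
      _ ≤ ∑ _i : ι, (Nat.card V : ℝ) * Nat.card (ConjClasses H) :=
          Finset.sum_le_sum (fun i _ => hup (σ i))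
      _ = _ := by rw [Finset.sum_const, Finset.card_univ, nsmul_eq_mul]
  have h1 := le_of_mul_le_mul_left htot hι
  have h2 := le_of_mul_le_mul_right h1 hkH
  exact_mod_cast h2

end Delta

end Cfsg.Agent.H718
end

-- part: H718/Delta
section
/-!
# The functions `δ` for the `k(GV)` criteria

* `IntCl f`: `f` is a class function all of whose inner products with irreducible characters are
  algebraic integers; a ring containing the characters.
* `Delta M act δ`: `δ` is such a function with `|δ h|² = |S| / |C_S(h)|` (for all conjugates),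
  `δ 1 = 1`, and `δ h ∈ M` if `h` acts nontrivially.
* `card_conjClasses_le_of_Delta`: the criterion for `k(GV) ≤ |V|`.
-/

set_option autoImplicit false
set_option linter.unusedSectionVars false

open scoped ComplexConjugate

namespace Cfsg.Agent.H718

open Cfsg Cfsg.Agent.Characters.Core Cfsg.Agent.Blocks.Local

section IntCl

variable {H : Type*} [Group H] [Fintype H]

/-- Class functions with algebraic integer coefficients. -/
def IntCl (f : H → ℂ) : Prop :=
  IsClassFunction H f ∧ ∀ ψ : H → ℂ, IsIrrCharacter H ψ → IsIntegral ℤ (classInner f ψ)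

theorem IntCl.of_isCharacter {χ : H → ℂ} (hχ : IsCharacter H χ) : IntCl χ := by
  refine ⟨isCharacter_isClassFunction hχ, fun ψ hψ => ?_⟩
  obtain ⟨n, hn⟩ := classInner_isNat hχ (isIrr_isCharacter hψ)
  rw [hn]
  exact isIntegral_natCast n

theorem IntCl.add {f g : H → ℂ} (hf : IntCl f) (hg : IntCl g) : IntCl (f + g) := by
  refine ⟨fun a b => ?_, fun ψ hψ => ?_⟩
  · simp only [Pi.add_apply]
    rw [hf.1 a b, hg.1 a b]
  · rw [classInner_add_left]
    exact (hf.2 ψ hψ).add (hg.2 ψ hψ)

theorem IntCl.smul {f : H → ℂ} (hf : IntCl f) {c : ℂ} (hc : IsIntegral ℤ c) : IntCl (c • f) := by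
  refine ⟨fun a b => ?_, fun ψ hψ => ?_⟩
  · simp only [Pi.smul_apply]
    rw [hf.1 a b]
  · rw [classInner_smul_left]
    exact hc.mul (hf.2 ψ hψ)

theorem IntCl.zero : IntCl (0 : H → ℂ) := by
  refine ⟨fun a b => rfl, fun ψ _ => ?_⟩
  rw [classInner_zero_left]
  exact isIntegral_zero

theorem IntCl.sum {ι : Type*} (s : Finset ι) {f : ι → H → ℂ} (hf : ∀ i ∈ s, IntCl (f i)) :
    IntCl (∑ i ∈ s, f i) := by
  classical
  induction s using Finset.induction_on with
  | empty => simpa using IntCl.zero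
  | insert a s ha ih =>
    rw [Finset.sum_insert ha]
    exact (hf a (Finset.mem_insert_self a s)).add
      (ih (fun i hi => hf i (Finset.mem_insert_of_mem hi)))

theorem IntCl.mul {f g : H → ℂ} (hf : IntCl f) (hg : IntCl g) : IntCl (f * g) := by
  classical
  have : Finite (IrrCharacter H) := finite_irr
  have : Fintype (IrrCharacter H) := Fintype.ofFinite _
  have hf' := classFunction_eq_sum hf.1
  have hg' := classFunction_eq_sum hg.1
  have h1 : f * g = ∑ χ : IrrCharacter H, ∑ ψ : IrrCharacter H,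
      (classInner f (χ : H → ℂ) * classInner g (ψ : H → ℂ)) • ((χ : H → ℂ) * (ψ : H → ℂ)) := by
    conv_lhs => rw [hf', hg']
    rw [Finset.sum_mul]
    refine Finset.sum_congr rfl (fun χ _ => ?_)
    rw [Finset.mul_sum]
    refine Finset.sum_congr rfl (fun ψ _ => ?_)
    rw [smul_mul_smul_comm]
  rw [h1]
  refine IntCl.sum _ (fun χ _ => IntCl.sum _ (fun ψ _ => ?_))
  exact (IntCl.of_isCharacter (isCharacter_mul (isIrr_isCharacter χ.2)
    (isIrr_isCharacter ψ.2))).smul ((hf.2 χ χ.2).mul (hg.2 ψ ψ.2))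

theorem IntCl.one : IntCl (1 : H → ℂ) := IntCl.of_isCharacter isCharacter_one

theorem IntCl.isIntegral {f : H → ℂ} (hf : IntCl f) (h : H) : IsIntegral ℤ (f h) := by
  classical
  have : Finite (IrrCharacter H) := finite_irr
  have : Fintype (IrrCharacter H) := Fintype.ofFinite _
  have hf' := classFunction_eq_sum hf.1
  rw [hf', Finset.sum_apply]
  refine IsIntegral.sum _ (fun χ _ => ?_)
  exact (hf.2 χ χ.2).mul (isIntegral_character (isIrr_isCharacter χ.2) h)

end IntCl

theorem Cyc_le {m n : ℕ} (h : m ∣ n) : Cyc m ≤ Cyc n := by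
  unfold Cyc
  rw [IntermediateField.adjoin_le_iff]
  intro b hb
  obtain ⟨k, rfl⟩ := h
  apply mem_Cyc_of_pow
  have hb' : b ^ m = 1 := hb
  rw [pow_mul, hb', one_pow]

/-- The properties of `δ` needed for the criterion. -/
structure Delta {H : Type*} [Group H] [Fintype H] (M : Ideal AlgInt) {S : Type*}
    (act : H → S → S) (δ : H → ℂ) : Prop where
  int : IntCl δ
  cyc : ∃ n : ℕ, n ≠ 0 ∧ ∀ h, δ h ∈ Cyc n
  one : δ 1 = 1
  mem : ∀ h, (∃ s, act h s ≠ s) → MemLocalIdeal M (δ h)
  abs : ∀ (σ : ℂ ≃+* ℂ) (h : H), ‖σ (δ h)‖ ^ 2 * Nat.card {s : S // act h s = s} = Nat.card S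

namespace Delta

variable {H : Type*} [Group H] [Fintype H] {M : Ideal AlgInt}

theorem congr {S S' : Type*} {act : H → S → S} {act' : H → S' → S'} {δ : H → ℂ}
    (h : Delta M act δ) (e : S ≃ S') (he : ∀ g s, e (act g s) = act' g (e s)) :
    Delta M act' δ where
  int := h.int
  cyc := h.cyc
  one := h.one
  mem := by
    rintro g ⟨s, hs⟩
    refine h.mem g ⟨e.symm s, fun h1 => hs ?_⟩
    have := he g (e.symm s)
    rw [h1, e.apply_symm_apply] at this
    exact this.symm
  abs := by
    intro σ g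
    have e2 : {s : S // act g s = s} ≃ {s : S' // act' g s = s} :=
      e.subtypeEquiv (fun s => by
        rw [← he g s]
        exact ⟨fun h => congrArg e h, fun h => e.injective h⟩)
    rw [← Nat.card_congr e2, ← Nat.card_congr e]
    exact h.abs σ g

theorem prod (hM : M.IsPrime) {S S' : Type*} {act : H → S → S} {act' : H → S' → S'} {δ δ' : H → ℂ}
    (h : Delta M act δ) (h' : Delta M act' δ') :
    Delta M (fun g (q : S × S') => (act g q.1, act' g q.2)) (δ * δ') where
  int := h.int.mul h'.int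
  cyc := by
    obtain ⟨n, hn, h1⟩ := h.cyc
    obtain ⟨n', hn', h1'⟩ := h'.cyc
    refine ⟨n * n', mul_ne_zero hn hn', fun g => ?_⟩
    exact mul_mem (Cyc_le (Dvd.intro _ rfl) (h1 g)) (Cyc_le (Dvd.intro_left _ rfl) (h1' g))
  one := by rw [Pi.mul_apply, h.one, h'.one, one_mul]
  mem := by
    rintro g ⟨⟨s, s'⟩, hs⟩
    by_cases h1 : act g s = s
    · have h2 : act' g s' ≠ s' := fun h2 => hs (by simp [h1, h2])
      exact memLocalIdeal_mul_left (memLocalRing_of_isIntegral (h.int.isIntegral g))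
        (h'.mem g ⟨s', h2⟩)
    · exact memLocalIdeal_mul_right (h.mem g ⟨s, h1⟩)
        (memLocalRing_of_isIntegral (h'.int.isIntegral g))
  abs := by
    intro σ g
    have e : {q : S × S' // (act g q.1, act' g q.2) = q} ≃
        {s : S // act g s = s} × {s : S' // act' g s = s} :=
      { toFun := fun q => (⟨q.1.1, congrArg Prod.fst q.2⟩, ⟨q.1.2, congrArg Prod.snd q.2⟩)
        invFun := fun q => ⟨(q.1.1, q.2.1), Prod.ext q.1.2 q.2.2⟩
        left_inv := fun q => rfl
        right_inv := fun q => rfl }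
    rw [Nat.card_congr e, Nat.card_prod, Nat.card_prod, Pi.mul_apply, map_mul, norm_mul, mul_pow]
    push_cast
    rw [← h.abs σ g, ← h'.abs σ g]
    ring

theorem of_trivial {S : Type*} [Finite S] {act : H → S → S} (hact : ∀ g s, act g s = s) :
    Delta M act 1 where
  int := IntCl.one
  cyc := ⟨1, one_ne_zero, fun h => one_mem _⟩
  one := rfl
  mem := by
    rintro g ⟨s, hs⟩
    exact absurd (hact g s) hs
  abs := by
    intro σ g
    rw [Nat.card_congr (Equiv.subtypeUnivEquiv (hact g))]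
    simp

end Delta

theorem card_mul_relIndex' {X : Type*} [Group X] {A B : Subgroup X} (h : A ≤ B) :
    Nat.card A * A.relIndex B = Nat.card B := by
  rw [← Subgroup.relIndex_bot_left, ← Subgroup.relIndex_bot_left B]
  exact Subgroup.relIndex_mul_relIndex _ _ _ bot_le h

/-- **The criterion**: `U ≤ V` normalized by `H = C_G(v)` on which `H` acts faithfully and which
has a `δ`. -/
theorem card_conjClasses_le_of_Delta {X : Type*} [Group X] [Finite X] {p : ℕ} [Fact p.Prime]
    {V : Subgroup X} [V.Normal] (hVp : IsPGroup p V) (hidx : ¬ p ∣ V.index)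
    (hab : ∀ a ∈ V, ∀ b ∈ V, a * b = b * a) (G : Subgroup X) (hGV : Subgroup.IsComplement' V G)
    {v : X} (hv : v ∈ V) (H : Subgroup X) (hH : H = G ⊓ Subgroup.centralizer ({v} : Set X))
    [Fintype H] {M : Ideal AlgInt} (hM : IsPModular p M) (U : Subgroup X) (hUV : U ≤ V)
    (act : H → U → U) (hact : ∀ (h : H) (u : U), ((act h u : U) : X) = h * u * (h : X)⁻¹)
    (hfaith : ∀ h : H, (∀ u : U, act h u = u) → h = 1) {δ : H → ℂ} (hδ : Delta M act δ) :
    Nat.card (ConjClasses X) ≤ Nat.card V := by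
  classical
  obtain ⟨n, hn, hcyc⟩ := hδ.cyc
  refine card_conjClasses_le_of_delta (n := n * Nat.card X) hVp hidx hab G hGV hv H hH hM
    (mul_ne_zero hn Nat.card_pos.ne') (Dvd.intro_left _ rfl) δ hδ.int.1 hδ.int.2
    (fun h => Cyc_le (Dvd.intro _ rfl) (hcyc h)) hδ.one ?_ ?_
  · intro h hh
    apply hδ.mem
    by_contra hcon
    push Not at hcon
    exact hh (hfaith h hcon)
  · intro σ h
    have h1 := hδ.abs σ h
    set C : Subgroup X := V ⊓ Subgroup.centralizer ({(h : X)} : Set X) with hC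
    -- the fixed points in `U`
    have e : {u : U // act h u = u} ≃ ↥(C ⊓ U) :=
      { toFun := fun u => ⟨(u.1 : X), ⟨⟨hUV u.1.2, Subgroup.mem_centralizer_singleton_iff.2 (by
          have h2 := congrArg (Subtype.val) u.2
          rw [hact] at h2
          have h3 : (h : X) * (u.1 : X) = u.1 * h := by
            conv_rhs => rw [← h2]
            group
          exact h3.symm)⟩, u.1.2⟩⟩
        invFun := fun u => ⟨⟨u.1, u.2.2⟩, Subtype.ext (by
          rw [hact]
          have h2 := Subgroup.mem_centralizer_singleton_iff.1 u.2.1.2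
          show (h : X) * u.1 * (h : X)⁻¹ = u.1
          rw [← h2]
          group)⟩
        left_inv := fun u => rfl
        right_inv := fun u => rfl }
    rw [Nat.card_congr e] at h1
    -- `|C| |U| ≤ |C ⊓ U| |V|`
    have h2 : Nat.card C * Nat.card U ≤ Nat.card ↥(C ⊓ U) * Nat.card V := by
      have h3 : (C ⊓ U).relIndex C ≤ U.relIndex V := by
        rw [inf_comm, Subgroup.inf_relIndex_right]
        have hCV : C ≤ V := inf_le_left
        exact Subgroup.relIndex_le_of_le_right hCV Subgroup.FiniteIndex.index_ne_zero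
      have h4 : Nat.card ↥(C ⊓ U) * (C ⊓ U).relIndex C = Nat.card C :=
        card_mul_relIndex' inf_le_left
      have h5 : Nat.card U * U.relIndex V = Nat.card V := card_mul_relIndex' hUV
      calc Nat.card C * Nat.card U = Nat.card ↥(C ⊓ U) * (C ⊓ U).relIndex C * Nat.card U := by
            rw [h4]
        _ ≤ Nat.card ↥(C ⊓ U) * U.relIndex V * Nat.card U := by gcongr
        _ = Nat.card ↥(C ⊓ U) * (Nat.card U * U.relIndex V) := by ring
        _ = _ := by rw [h5]
    have hU0 : (0 : ℝ) < Nat.card U := by exact_mod_cast Nat.card_pos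
    have hCU0 : (0 : ℝ) < Nat.card ↥(C ⊓ U) := by exact_mod_cast Nat.card_pos
    have h2' : (Nat.card C : ℝ) * Nat.card U ≤ Nat.card ↥(C ⊓ U) * Nat.card V := by
      exact_mod_cast h2
    have h6 : ‖σ (δ h)‖ ^ 2 * (Nat.card C : ℝ) * (Nat.card ↥(C ⊓ U) : ℝ) ≤
        (Nat.card V : ℝ) * (Nat.card ↥(C ⊓ U) : ℝ) := by
      have e1 : ‖σ (δ h)‖ ^ 2 * (Nat.card C : ℝ) * (Nat.card ↥(C ⊓ U) : ℝ) =
          (‖σ (δ h)‖ ^ 2 * (Nat.card ↥(C ⊓ U) : ℝ)) * (Nat.card C : ℝ) := by ring
      rw [e1, h1, mul_comm (Nat.card V : ℝ), mul_comm (Nat.card U : ℝ)]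
      exact h2'
    exact le_of_mul_le_mul_right h6 hCU0

end Cfsg.Agent.H718
end
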