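import Mathlib
import Cfsg.Agent.GpLn.Rank
set_option linter.all false

/-!
# Self-dual coprime modules over finite fields (helper718)

A nondegenerate invariant bilinear form on a coprime module splits the module into a part with a nondegenerate
alternating form and a part with a nondegenerate symmetric form (trivial action on the latter in characteristic two).
-/

set_option autoImplicit false
set_option linter.unusedSectionVars false

namespace Cfsg.Agent.H718.SelfDual

open Module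

variable {F : Type*} [Field F] {V : Type*} [AddCommGroup V] [Module F V] {G : Type*} [Group G]

/-- invariant subspaces -/
def Inv (ρ : Representation F G V) (U : Submodule F V) : Prop := ∀ g : G, ∀ u ∈ U, ρ g u ∈ U

theorem Inv.sup {ρ : Representation F G V} {U W : Submodule F V} (hU : Inv ρ U) (hW : Inv ρ W) : Inv ρ (U ⊔ W) := by
  intro g x hx
  obtain ⟨u, hu, w, hw, rfl⟩ := Submodule.mem_sup.1 hx
  rw [map_add]
  exact Submodule.add_mem_sup (hU g u hu) (hW g w hw)

theorem Inv.bot {ρ : Representation F G V} : Inv ρ (⊥ : Submodule F V) := by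
  intro g x hx
  rw [Submodule.mem_bot] at hx ⊢
  rw [hx, map_zero]

/-- the form `A` has the property `τ`, is invariant and nondegenerate on `U` -/
structure On (ρ : Representation F G V) (τ : LinearMap.BilinForm F V → Prop) (U : Submodule F V)
    (A : LinearMap.BilinForm F V) : Prop where
  tau : τ A
  inv : ∀ g : G, ∀ x ∈ U, ∀ y ∈ U, A (ρ g x) (ρ g y) = A x y
  nd : ∀ x ∈ U, (∀ y ∈ U, A x y = 0) → x = 0

/-- alternating forms -/
def Alt (A : LinearMap.BilinForm F V) : Prop := ∀ x, A x x = 0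

/-- symmetric forms -/
def Sym (A : LinearMap.BilinForm F V) : Prop := ∀ x y, A x y = A y x

theorem On.bot {ρ : Representation F G V} {τ : LinearMap.BilinForm F V → Prop} (h0 : τ 0) :
    On ρ τ ⊥ 0 := by
  refine ⟨h0, fun g x _ y _ => rfl, fun x hx _ => (Submodule.mem_bot F).1 hx⟩

/-- disjoint subspaces: there is a projection onto the first which kills the second -/
theorem exists_proj {U W : Submodule F V} (hd : Disjoint U W) :
    ∃ π : V →ₗ[F] V, (∀ v, π v ∈ U) ∧ (∀ u ∈ U, π u = u) ∧ ∀ w ∈ W, π w = 0 := by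
  obtain ⟨C, hC⟩ := (U ⊔ W).exists_isCompl
  have h1 : IsCompl U (W ⊔ C) := by
    constructor
    · exact Disjoint.disjoint_sup_right_of_disjoint_sup_left hd hC.disjoint
    · rw [codisjoint_iff, ← sup_assoc]
      exact hC.codisjoint.eq_top
  refine ⟨U.projection (W ⊔ C) h1, ?_, ?_, ?_⟩
  · intro v
    exact Submodule.projection_apply_mem h1 v
  · intro u hu
    exact Submodule.projection_apply_left h1 ⟨u, hu⟩
  · intro w hw
    exact Submodule.projection_apply_right h1 ⟨w, Submodule.mem_sup_left hw⟩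

theorem On.sup {ρ : Representation F G V} {τ : LinearMap.BilinForm F V → Prop}
    (hadd : ∀ A B, τ A → τ B → τ (A + B)) (hcomp : ∀ A (f : V →ₗ[F] V), τ A → τ (A.comp f f))
    {U₁ U₂ : Submodule F V} {A₁ A₂ : LinearMap.BilinForm F V} (hd : Disjoint U₁ U₂) (i₁ : Inv ρ U₁) (i₂ : Inv ρ U₂)
    (h₁ : On ρ τ U₁ A₁) (h₂ : On ρ τ U₂ A₂) : ∃ A, On ρ τ (U₁ ⊔ U₂) A := by
  obtain ⟨π₁, a₁, b₁, c₁⟩ := exists_proj hd
  obtain ⟨π₂, a₂, b₂, c₂⟩ := exists_proj hd.symm
  have e₁ : ∀ u ∈ U₁, ∀ v ∈ U₂, π₁ (u + v) = u := by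
    intro u hu v hv
    rw [map_add, b₁ u hu, c₁ v hv, add_zero]
  have e₂ : ∀ u ∈ U₁, ∀ v ∈ U₂, π₂ (u + v) = v := by
    intro u hu v hv
    rw [map_add, c₂ u hu, b₂ v hv, zero_add]
  refine ⟨A₁.comp π₁ π₁ + A₂.comp π₂ π₂, hadd _ _ (hcomp _ _ h₁.tau) (hcomp _ _ h₂.tau), ?_, ?_⟩
  · intro g x hx y hy
    obtain ⟨u, hu, v, hv, rfl⟩ := Submodule.mem_sup.1 hx
    obtain ⟨u', hu', v', hv', rfl⟩ := Submodule.mem_sup.1 hy
    simp only [LinearMap.add_apply, LinearMap.BilinForm.comp_apply]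
    rw [e₁ u hu v hv, e₁ u' hu' v' hv', e₂ u hu v hv, e₂ u' hu' v' hv', map_add (ρ g), map_add (ρ g),
      e₁ _ (i₁ g u hu) _ (i₂ g v hv), e₁ _ (i₁ g u' hu') _ (i₂ g v' hv'),
      e₂ _ (i₁ g u hu) _ (i₂ g v hv), e₂ _ (i₁ g u' hu') _ (i₂ g v' hv'), h₁.inv g u hu u' hu', h₂.inv g v hv v' hv']
  · intro x hx h
    obtain ⟨u, hu, v, hv, rfl⟩ := Submodule.mem_sup.1 hx
    simp only [LinearMap.add_apply, LinearMap.BilinForm.comp_apply] at h
    rw [e₁ u hu v hv, e₂ u hu v hv] at h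
    have hu0 : u = 0 := by
      refine h₁.nd u hu fun y hy => ?_
      have := h y (Submodule.mem_sup_left hy)
      rwa [b₁ y hy, c₂ y hy, map_zero, add_zero] at this
    have hv0 : v = 0 := by
      refine h₂.nd v hv fun y hy => ?_
      have := h y (Submodule.mem_sup_right hy)
      rwa [b₂ y hy, c₁ y hy, map_zero, zero_add] at this
    rw [hu0, hv0, add_zero]

theorem Alt.add (A B : LinearMap.BilinForm F V) (hA : Alt A) (hB : Alt B) : Alt (A + B) := by
  intro x
  rw [LinearMap.add_apply, LinearMap.add_apply, hA x, hB x, add_zero]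

theorem Alt.comp (A : LinearMap.BilinForm F V) (f : V →ₗ[F] V) (hA : Alt A) : Alt (A.comp f f) := by
  intro x
  rw [LinearMap.BilinForm.comp_apply]
  exact hA _

theorem Sym.add (A B : LinearMap.BilinForm F V) (hA : Sym A) (hB : Sym B) : Sym (A + B) := by
  intro x y
  rw [LinearMap.add_apply, LinearMap.add_apply, hA x y, hB x y, LinearMap.add_apply, LinearMap.add_apply]

theorem Sym.comp (A : LinearMap.BilinForm F V) (f : V →ₗ[F] V) (hA : Sym A) : Sym (A.comp f f) := by
  intro x y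
  rw [LinearMap.BilinForm.comp_apply, LinearMap.BilinForm.comp_apply]
  exact hA _ _

/-- the conclusion, on the subspace `N` -/
structure Split (ρ : Representation F G V) (p : ℕ) (N U W : Submodule F V) : Prop where
  sup : U ⊔ W = N
  disj : Disjoint U W
  invU : Inv ρ U
  invW : Inv ρ W
  alt : ∃ A, On ρ Alt U A
  sym : ∃ S, On ρ Sym W S
  triv : p = 2 → ∀ g : G, ∀ w ∈ W, ρ g w = w

theorem Split.join {ρ : Representation F G V} {p : ℕ} {N₁ N₂ U₁ U₂ W₁ W₂ : Submodule F V} (hd : Disjoint N₁ N₂)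
    (h₁ : Split ρ p N₁ U₁ W₁) (h₂ : Split ρ p N₂ U₂ W₂) : Split ρ p (N₁ ⊔ N₂) (U₁ ⊔ U₂) (W₁ ⊔ W₂) := by
  have u₁ : U₁ ≤ N₁ := h₁.sup ▸ le_sup_left
  have w₁ : W₁ ≤ N₁ := h₁.sup ▸ le_sup_right
  have u₂ : U₂ ≤ N₂ := h₂.sup ▸ le_sup_left
  have w₂ : W₂ ≤ N₂ := h₂.sup ▸ le_sup_right
  refine ⟨?_, ?_, h₁.invU.sup h₂.invU, h₁.invW.sup h₂.invW, ?_, ?_, ?_⟩
  · rw [sup_sup_sup_comm, h₁.sup, h₂.sup]
  · rw [Submodule.disjoint_def]
    intro x hx hx'
    obtain ⟨u, hu, v, hv, rfl⟩ := Submodule.mem_sup.1 hx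
    obtain ⟨w, hw, z, hz, he⟩ := Submodule.mem_sup.1 hx'
    have h1 : u - w = z - v := by
      have : w + z = u + v := he
      rw [sub_eq_sub_iff_add_eq_add, ← this, add_comm]
    have h2 : u - w = 0 := by
      refine Submodule.disjoint_def.1 hd _ (N₁.sub_mem (u₁ hu) (w₁ hw)) ?_
      rw [h1]
      exact N₂.sub_mem (w₂ hz) (u₂ hv)
    have h3 : u = w := sub_eq_zero.1 h2
    have h4 : z = v := sub_eq_zero.1 (h1 ▸ h2)
    have h5 : u = 0 := Submodule.disjoint_def.1 h₁.disj u hu (h3 ▸ hw)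
    have h6 : v = 0 := Submodule.disjoint_def.1 h₂.disj v hv (h4 ▸ hz)
    rw [h5, h6, add_zero]
  · obtain ⟨A₁, hA₁⟩ := h₁.alt
    obtain ⟨A₂, hA₂⟩ := h₂.alt
    exact hA₁.sup Alt.add Alt.comp (hd.mono u₁ u₂) h₁.invU h₂.invU hA₂
  · obtain ⟨A₁, hA₁⟩ := h₁.sym
    obtain ⟨A₂, hA₂⟩ := h₂.sym
    exact hA₁.sup Sym.add Sym.comp (hd.mono w₁ w₂) h₁.invW h₂.invW hA₂
  · intro hp g x hx
    obtain ⟨u, hu, v, hv, rfl⟩ := Submodule.mem_sup.1 hx
    rw [map_add, h₁.triv hp g u hu, h₂.triv hp g v hv]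

/-- one-sided nondegeneracy on a subspace -/
def NDl (B : LinearMap.BilinForm F V) (N : Submodule F V) : Prop := ∀ x ∈ N, (∀ y ∈ N, B x y = 0) → x = 0

variable [FiniteDimensional F V]

/-- a functional on `N` of the form `B · x` is represented by an element of `N` -/
theorem NDl.exists_repr {B : LinearMap.BilinForm F V} {N : Submodule F V} (h : NDl B N) (φ : V →ₗ[F] F) :
    ∃ q ∈ N, ∀ s ∈ N, φ s = B q s := by
  let f : N →ₗ[F] Dual F N := (B.domRestrict₁₂ N N)
  have hf : ∀ x y : N, f x y = B x y := fun x y => rfl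
  have hinj : Function.Injective f := by
    rw [← LinearMap.ker_eq_bot, LinearMap.ker_eq_bot']
    intro x hx
    apply Subtype.ext
    refine h x x.2 fun y hy => ?_
    rw [← hf x ⟨y, hy⟩, hx]
    rfl
  have hsurj : Function.Surjective f :=
    (LinearMap.injective_iff_surjective_of_finrank_eq_finrank (Subspace.dual_finrank_eq).symm).1 hinj
  obtain ⟨q, hq⟩ := hsurj (φ.comp N.subtype)
  refine ⟨q, q.2, fun s hs => ?_⟩
  rw [← hf q ⟨s, hs⟩, hq]
  rfl

theorem NDl.flip {B : LinearMap.BilinForm F V} {N : Submodule F V} (h : NDl B N) : NDl B.flip N := by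
  intro x hx h0
  rw [← Module.forall_dual_apply_eq_zero_iff F x]
  intro φ
  obtain ⟨q, hq, hφ⟩ := h.exists_repr φ
  rw [hφ x hx]
  exact h0 q hq

/-- the right perpendicular of `Q` in `N` -/
def perp (B : LinearMap.BilinForm F V) (N Q : Submodule F V) : Submodule F V where
  carrier := {x | x ∈ N ∧ ∀ s ∈ Q, B s x = 0}
  add_mem' := by
    rintro a b ⟨ha, ha'⟩ ⟨hb, hb'⟩
    exact ⟨N.add_mem ha hb, fun s hs => by rw [map_add, ha' s hs, hb' s hs, add_zero]⟩
  zero_mem' := ⟨N.zero_mem, fun s _ => map_zero _⟩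
  smul_mem' := by
    rintro c a ⟨ha, ha'⟩
    exact ⟨N.smul_mem c ha, fun s hs => by rw [map_smul, ha' s hs, smul_zero]⟩

theorem mem_perp {B : LinearMap.BilinForm F V} {N Q : Submodule F V} {x : V} :
    x ∈ perp B N Q ↔ x ∈ N ∧ ∀ s ∈ Q, B s x = 0 := Iff.rfl

theorem Inv.perp {ρ : Representation F G V} {B : LinearMap.BilinForm F V}
    (hB : ∀ g : G, ∀ x y : V, B (ρ g x) (ρ g y) = B x y) {N Q : Submodule F V} (hN : Inv ρ N) (hQ : Inv ρ Q) :
    Inv ρ (perp B N Q) := by
  rintro g x ⟨hx, hx'⟩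
  refine ⟨hN g x hx, fun s hs => ?_⟩
  have h1 : s = ρ g (ρ g⁻¹ s) := by
    rw [← Module.End.mul_apply, ← map_mul, mul_inv_cancel, map_one]; rfl
  rw [h1, hB]
  exact hx' _ (hQ _ _ hs)

theorem NDl.perp {B : LinearMap.BilinForm F V} {N Q : Submodule F V} (hQN : Q ≤ N) (hN : NDl B N) (hQ : NDl B Q) :
    Disjoint Q (perp B N Q) ∧ Q ⊔ SelfDual.perp B N Q = N ∧ NDl B (SelfDual.perp B N Q) := by
  have hd : Disjoint Q (SelfDual.perp B N Q) := by
    rw [Submodule.disjoint_def]
    rintro x hx ⟨_, hx'⟩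
    exact hQ.flip x hx hx'
  have hs : Q ⊔ SelfDual.perp B N Q = N := by
    apply le_antisymm
    · exact sup_le hQN fun x hx => hx.1
    · intro x hx
      obtain ⟨q, hq, hφ⟩ := hQ.flip.exists_repr (B.flip x)
      refine Submodule.mem_sup.2 ⟨q, hq, x - q, ⟨N.sub_mem hx (hQN hq), fun s hs => ?_⟩, by abel⟩
      have := hφ s hs
      rw [LinearMap.BilinForm.flip_apply, LinearMap.BilinForm.flip_apply] at this
      rw [map_sub, this, sub_self]
  refine ⟨hd, hs, ?_⟩
  have hr : NDl B.flip (SelfDual.perp B N Q) := by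
    intro x hx h0
    refine hN.flip x hx.1 fun y hy => ?_
    rw [← hs] at hy
    obtain ⟨q, hq, z, hz, rfl⟩ := Submodule.mem_sup.1 hy
    rw [map_add, h0 z hz, add_zero]
    exact hx.2 q hq
  have := hr.flip
  intro x hx h
  exact this x hx fun y hy => by rw [LinearMap.BilinForm.flip_apply, LinearMap.BilinForm.flip_apply]; exact h y hy

/-- a minimal nonzero invariant subspace -/
theorem exists_min {ρ : Representation F G V} {R : Submodule F V} (hR : Inv ρ R) (hR0 : R ≠ ⊥) :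
    ∃ S : Submodule F V, S ≤ R ∧ S ≠ ⊥ ∧ Inv ρ S ∧ ∀ K : Submodule F V, K ≤ S → Inv ρ K → K = ⊥ ∨ K = S := by
  obtain ⟨S, hS, hmin⟩ := (wellFounded_lt (α := Submodule F V)).has_min
    {S | S ≤ R ∧ S ≠ ⊥ ∧ Inv ρ S} ⟨R, le_rfl, hR0, hR⟩
  refine ⟨S, hS.1, hS.2.1, hS.2.2, fun K hK hi => ?_⟩
  by_contra h
  push Not at h
  exact hmin K ⟨hK.trans hS.1, h.1, hi⟩ (lt_of_le_of_ne hK h.2)

theorem main [Finite G] (ρ : Representation F G V) (p : ℕ) [CharP F p] (hG : (Nat.card G : F) ≠ 0)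
    (B : LinearMap.BilinForm F V) (hB : ∀ g : G, ∀ x y : V, B (ρ g x) (ρ g y) = B x y) :
    ∀ (n : ℕ) (N : Submodule F V), finrank F N = n → Inv ρ N → NDl B N → ∃ U W, Split ρ p N U W := by
  intro n
  induction n using Nat.strong_induction_on with
  | _ n ih =>
  intro N hn hN hND
  by_cases hN0 : N = ⊥
  · subst hN0
    exact ⟨⊥, ⊥, sup_idem _, disjoint_bot_left, Inv.bot, Inv.bot, ⟨0, On.bot fun x => rfl⟩, ⟨0, On.bot fun x y => rfl⟩,
      fun _ g w hw => by rw [(Submodule.mem_bot F).1 hw, map_zero]⟩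
  -- the step: a good nondegenerate subspace
  have step : ∀ Q : Submodule F V, Q ≤ N → Q ≠ ⊥ → Inv ρ Q → NDl B Q → (∃ U W, Split ρ p Q U W) →
      ∃ U W, Split ρ p N U W := by
    intro Q hQN hQ0 hQi hQ hQs
    obtain ⟨hd, hs, hP⟩ := NDl.perp hQN hND hQ
    obtain ⟨U₁, W₁, h₁⟩ := hQs
    obtain ⟨U₂, W₂, h₂⟩ := ih (finrank F (perp B N Q)) (by
      rw [← hn, ← hs]
      have := Submodule.finrank_sup_add_finrank_inf_eq Q (perp B N Q)
      rw [hd.eq_bot, finrank_bot, add_zero] at this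
      rw [hs] at this ⊢
      have h0 : 0 < finrank F Q := Module.finrank_pos_iff.2 ((Submodule.nontrivial_iff_ne_bot).2 hQ0)
      omega) (perp B N Q) rfl (Inv.perp hB hN hQi) hP
    have := h₁.join hd h₂
    rw [hs] at this
    exact ⟨_, _, this⟩
  -- the radical of `B - Bᵗ`
  let R : Submodule F V :=
    { carrier := {x | x ∈ N ∧ ∀ y ∈ N, B x y = B y x}
      add_mem' := by
        rintro a b ⟨ha, ha'⟩ ⟨hb, hb'⟩
        exact ⟨N.add_mem ha hb, fun y hy => by rw [map_add, LinearMap.add_apply, map_add, ha' y hy, hb' y hy]⟩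
      zero_mem' := ⟨N.zero_mem, fun y _ => by rw [map_zero, map_zero, LinearMap.zero_apply]⟩
      smul_mem' := by
        rintro c a ⟨ha, ha'⟩
        exact ⟨N.smul_mem c ha, fun y hy => by rw [map_smul, LinearMap.smul_apply, map_smul, ha' y hy]⟩ }
  have hRN : ∀ x ∈ R, x ∈ N := fun x hx => hx.1
  have hRs : ∀ x ∈ R, ∀ y ∈ N, B x y = B y x := fun x hx => hx.2
  have hRi : Inv ρ R := by
    rintro g x ⟨hx, hx'⟩
    refine ⟨hN g x hx, fun y hy => ?_⟩
    have h1 : y = ρ g (ρ g⁻¹ y) := by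
      rw [← Module.End.mul_apply, ← map_mul, mul_inv_cancel, map_one]; rfl
    rw [h1, hB, hB]
    exact hx' _ (hN _ _ hy)
  by_cases hR0 : R = ⊥
  · refine ⟨N, ⊥, sup_bot_eq _, disjoint_bot_right, hN, Inv.bot, ⟨B - B.flip, ?_, ?_, ?_⟩,
      ⟨0, On.bot fun x y => rfl⟩, fun _ g w hw => by rw [(Submodule.mem_bot F).1 hw, map_zero]⟩
    · intro x
      rw [LinearMap.sub_apply, LinearMap.sub_apply, LinearMap.BilinForm.flip_apply, sub_self]
    · intro g x _ y _
      rw [LinearMap.sub_apply, LinearMap.sub_apply, LinearMap.BilinForm.flip_apply, LinearMap.sub_apply, LinearMap.sub_apply,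
        LinearMap.BilinForm.flip_apply, hB, hB]
    · intro x hx h
      have : x ∈ R := by
        refine ⟨hx, fun y hy => ?_⟩
        have := h y hy
        rwa [LinearMap.sub_apply, LinearMap.sub_apply, LinearMap.BilinForm.flip_apply, sub_eq_zero] at this
      rw [hR0] at this
      exact (Submodule.mem_bot F).1 this
  obtain ⟨S, hSR, hS0, hSi, hSmin⟩ := exists_min hRi hR0
  have hSN : S ≤ N := fun x hx => hRN x (hSR hx)
  have hSs : ∀ x ∈ S, ∀ y ∈ N, B x y = B y x := fun x hx => hRs x (hSR hx)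
  -- the radical of `B` on `S`
  have hPi := Inv.perp hB hN hSi
  obtain ⟨π, hπ, hπ', -⟩ := exists_proj (disjoint_bot_right : Disjoint S ⊥)
  rcases hSmin (S ⊓ perp B N S) inf_le_left (fun g x hx => ⟨hSi g x hx.1, hPi g x hx.2⟩) with h0 | h0
  · -- nondegenerate on `S`
    have hSnd : NDl B S := by
      intro x hx h
      have : x ∈ S ⊓ perp B N S := ⟨hx, hSN hx, fun s hs => by rw [← hSs x hx s (hSN hs)]; exact h s hs⟩
      rw [h0] at this
      exact (Submodule.mem_bot F).1 this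
    refine step S hSN hS0 hSi hSnd ?_
    have hinv : ∀ g : G, ∀ x ∈ S, ∀ y ∈ S, (B.comp π π) (ρ g x) (ρ g y) = (B.comp π π) x y := by
      intro g x hx y hy
      rw [LinearMap.BilinForm.comp_apply, LinearMap.BilinForm.comp_apply, hπ' _ (hSi g x hx), hπ' _ (hSi g y hy),
        hπ' _ hx, hπ' _ hy, hB]
    have hnd : ∀ x ∈ S, (∀ y ∈ S, (B.comp π π) x y = 0) → x = 0 := by
      intro x hx h
      refine hSnd x hx fun y hy => ?_
      have := h y hy
      rwa [LinearMap.BilinForm.comp_apply, hπ' _ hx, hπ' _ hy] at this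
    have hsym : Sym (B.comp π π) := by
      intro x y
      rw [LinearMap.BilinForm.comp_apply, LinearMap.BilinForm.comp_apply]
      exact hSs _ (hπ x) _ (hSN (hπ y))
    by_cases hp : p = 2
    · let K : Submodule F V :=
        { carrier := {x | x ∈ S ∧ B x x = 0}
          add_mem' := by
            rintro a b ⟨ha, ha'⟩ ⟨hb, hb'⟩
            refine ⟨S.add_mem ha hb, ?_⟩
            have h2 : (2 : F) = 0 := by
              subst hp
              exact_mod_cast CharP.cast_eq_zero F 2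
            simp only [map_add, LinearMap.add_apply]
            rw [ha', hb', hSs b hb a (hSN ha)]
            linear_combination (B a b) * h2
          zero_mem' := ⟨S.zero_mem, by rw [map_zero]⟩
          smul_mem' := by
            rintro c a ⟨ha, ha'⟩
            exact ⟨S.smul_mem c ha, by simp only [map_smul, LinearMap.smul_apply, ha', smul_zero]⟩ }
      have hKi : Inv ρ K := by
        rintro g x ⟨hx, hx'⟩
        exact ⟨hSi g x hx, by rw [hB]; exact hx'⟩
      rcases hSmin K (fun x hx => hx.1) hKi with hK | hK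
      · refine ⟨⊥, S, bot_sup_eq _, disjoint_bot_left, Inv.bot, hSi, ⟨0, On.bot fun x => rfl⟩,
          ⟨B.comp π π, hsym, hinv, hnd⟩, fun _ g w hw => ?_⟩
        have : ρ g w - w ∈ K := by
          refine ⟨S.sub_mem (hSi g w hw) hw, ?_⟩
          have h2 : (2 : F) = 0 := by
            subst hp
            exact_mod_cast CharP.cast_eq_zero F 2
          simp only [map_sub, LinearMap.sub_apply]
          rw [hB, hSs w hw _ (hSN (hSi g w hw))]
          linear_combination (B w w - B (ρ g w) w) * h2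
        rw [hK] at this
        exact sub_eq_zero.1 ((Submodule.mem_bot F).1 this)
      · refine ⟨S, ⊥, sup_bot_eq _, disjoint_bot_right, hSi, Inv.bot, ⟨B.comp π π, ?_, hinv, hnd⟩,
          ⟨0, On.bot fun x y => rfl⟩, fun _ g w hw => by rw [(Submodule.mem_bot F).1 hw, map_zero]⟩
        intro x
        rw [LinearMap.BilinForm.comp_apply]
        have : π x ∈ K := hK ▸ hπ x
        exact this.2
    · exact ⟨⊥, S, bot_sup_eq _, disjoint_bot_left, Inv.bot, hSi, ⟨0, On.bot fun x => rfl⟩,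
          ⟨B.comp π π, hsym, hinv, hnd⟩, fun h => absurd h hp⟩
  · -- `S` is isotropic
    have hSP : S ≤ perp B N S := inf_eq_left.1 h0
    obtain ⟨T', hT'i, hT'⟩ := GpLn.Rank.exists_compl ρ hG (perp B N S) hPi
    set T := T' ⊓ N with hT
    have hTi : Inv ρ T := fun g x hx => ⟨hT'i g x hx.1, hN g x hx.2⟩
    have hTN : T ≤ N := inf_le_right
    have hPN : perp B N S ≤ N := fun x hx => hx.1
    have hPT : perp B N S ⊔ T = N := by
      rw [hT, ← sup_inf_assoc_of_le _ hPN, hT'.sup_eq_top, top_inf_eq]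
    have hPTd : Disjoint (perp B N S) T := hT'.disjoint.mono_right inf_le_left
    have hST : Disjoint S T := hPTd.mono_left hSP
    have hl : ∀ s ∈ S, (∀ t ∈ T, B s t = 0) → s = 0 := by
      intro s hs h
      refine hND s (hSN hs) fun y hy => ?_
      rw [← hPT] at hy
      obtain ⟨a, ha, b, hb, rfl⟩ := Submodule.mem_sup.1 hy
      rw [map_add, h b hb, add_zero]
      exact ha.2 s hs
    have hr : ∀ t ∈ T, (∀ s ∈ S, B s t = 0) → t = 0 := fun t ht h =>
      Submodule.disjoint_def.1 hPTd t ⟨hTN ht, h⟩ ht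
    have hSS : ∀ s ∈ S, ∀ s' ∈ S, B s s' = 0 := fun s hs s' hs' => (hSP hs').2 s hs
    refine step (S ⊔ T) (sup_le hSN hTN) ?_ (hSi.sup hTi) ?_ ?_
    · intro h
      exact hS0 (le_bot_iff.1 (h ▸ le_sup_left))
    · intro x hx h
      obtain ⟨s, hs, t, ht, rfl⟩ := Submodule.mem_sup.1 hx
      have ht0 : t = 0 := by
        refine hr t ht fun s' hs' => ?_
        have := h s' (Submodule.mem_sup_left hs')
        rwa [map_add, LinearMap.add_apply, hSS s hs s' hs', zero_add, ← hSs s' hs' t (hTN ht)] at this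
      subst ht0
      rw [add_zero]
      refine hl s hs fun t' ht' => ?_
      have := h t' (Submodule.mem_sup_right ht')
      rwa [add_zero] at this
    · obtain ⟨π₁, a₁, b₁, c₁⟩ := exists_proj hST
      obtain ⟨π₂, a₂, b₂, c₂⟩ := exists_proj hST.symm
      have e₁ : ∀ u ∈ S, ∀ v ∈ T, π₁ (u + v) = u := by
        intro u hu v hv
        rw [map_add, b₁ u hu, c₁ v hv, add_zero]
      have e₂ : ∀ u ∈ S, ∀ v ∈ T, π₂ (u + v) = v := by
        intro u hu v hv
        rw [map_add, c₂ u hu, b₂ v hv, zero_add]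
      let A : LinearMap.BilinForm F V := B.comp π₁ π₂ - (B.comp π₁ π₂).flip
      have hA : ∀ x y, A x y = B (π₁ x) (π₂ y) - B (π₁ y) (π₂ x) := by
        intro x y
        rw [LinearMap.sub_apply, LinearMap.sub_apply, LinearMap.BilinForm.flip_apply, LinearMap.BilinForm.comp_apply,
          LinearMap.BilinForm.comp_apply]
      refine ⟨S ⊔ T, ⊥, sup_bot_eq _, disjoint_bot_right, hSi.sup hTi, Inv.bot, ⟨A, ?_, ?_, ?_⟩,
          ⟨0, On.bot fun x y => rfl⟩, fun _ g w hw => by rw [(Submodule.mem_bot F).1 hw, map_zero]⟩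
      · intro x
        rw [hA, sub_self]
      · intro g x hx y hy
        obtain ⟨u, hu, v, hv, rfl⟩ := Submodule.mem_sup.1 hx
        obtain ⟨u', hu', v', hv', rfl⟩ := Submodule.mem_sup.1 hy
        rw [hA, hA, e₁ u hu v hv, e₁ u' hu' v' hv', e₂ u hu v hv, e₂ u' hu' v' hv', map_add (ρ g), map_add (ρ g),
          e₁ _ (hSi g u hu) _ (hTi g v hv), e₁ _ (hSi g u' hu') _ (hTi g v' hv'),
          e₂ _ (hSi g u hu) _ (hTi g v hv), e₂ _ (hSi g u' hu') _ (hTi g v' hv'), hB, hB]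
      · intro x hx h
        obtain ⟨u, hu, v, hv, rfl⟩ := Submodule.mem_sup.1 hx
        have hu0 : u = 0 := by
          refine hl u hu fun t ht => ?_
          have := h t (Submodule.mem_sup_right ht)
          rwa [hA, e₁ u hu v hv, e₂ u hu v hv, c₁ t ht, b₂ t ht, map_zero, LinearMap.zero_apply, sub_zero] at this
        have hv0 : v = 0 := by
          refine hr v hv fun s hs => ?_
          have := h s (Submodule.mem_sup_left hs)
          rwa [hA, e₁ u hu v hv, e₂ u hu v hv, b₁ s hs, c₂ s hs, map_zero, zero_sub, neg_eq_zero] at this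
        rw [hu0, hv0, add_zero]

end Cfsg.Agent.H718.SelfDual
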